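import Cfsg.Agent.P4n.Defs

/-! Degrees 9 to 299. See stubs/Cfsg/Agent/P4n/PLAN.md, section NA. -/

set_option autoImplicit false
set_option synthInstance.maxSize 100000

namespace Cfsg.Agent.P4n

open Equiv MulAction ChS

namespace NAH

/-- Binary lengths of `Ub`, in base 1024. -/
def TU : ℕ :=
  0x83a0e81e0480a0281dff7f9f77d1f07a5e97a5e97c1e87c1e87b1ea7ade37a1e279de77b1e479ddf779d7751d277dd7741cd72dcb74dcb72dcb711c4721c06e9b46c9b26c9af6b9a66a9a26919c671966559566592641906598f67194639886318461184625835f1795e5775c16a5d96e5b96e5b56a58d635a5695895c5795756d535595655d505454a51d4350942509424fd39501395093b4d12f4ad284c12849d24491204a12146d1847d17445114490d4390641505408ff40cfc400f93f8fc3d4f53d0f43b8e93b4e53b4e53a0e4378de390dd374d735cd0334c8334c8308bf304bf2e4b62d4b22e4b22ccae2d4ae2d0ad29ca72b0a52aca42849e2889b2709c25891240902408a2348820c83230862047a1f8771d8761ec781e4731cc6d1a8661ac65190611845e17c591885c15c53144511444b128461104111c410f43a1043c1043c0ec370e0330c8320b82a0a8250a82509c220781c0841c0641606014054110400d0380b0380b0240501c04018030080100000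

/-- Binary lengths of the bounds for imprimitive stabilisers, in base 1024. -/
def TY : ℕ :=
  0x3a17e5417b3f97900176525742a5713016f50d6c0016a001674f165001623b9604d95d0015b001584bd5639953001514a14e2c14c0014948946349430014146d3e2f53c359394513700134001324392f3392d0012a41d280012500123405200011e2911b3e919261162f9143cd110010f2b90c3b50a2d907241053990200100000fd37cfb000f8000f6364f3274f1294ee348ec000e9000e7330e4274e2000df314dd1d8da000d82f8d5000d31e0d02e0ce000cb234c92c4c6000c4000c12a8bf214bc1ccba290b7000b5000b2274b0234ad000ab258a8000a51d4a2240a01789d1f09b224981b49600093208910008e0008c1f08900087000841d4820007f1707d1b87a17078000751a073150700006e1846b000691346616864000610005f1505c0005a1445713454000510004f1184c1084a000470fc450cc42000400e43d0003b000380c836000330a0310ac2e0002b000280942607023000210701e0001c0001804c15000110000e02c0a00008000050000000000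

/-- The largest admissible `k`, in base 16. -/
def TK : ℕ :=
  0x999999999999999999999999998888888888888888888888888888888888888888888888888888888888888877777777777777777777777777777777777777777777777777777766666666666666666666666666666666666666666666665555555555555555555555555555555555555544444444444444444444444444444433333333333333333333332222222222222211111100

/-- table lookup -/
def tu (m : ℕ) : ℕ := TU / 1024 ^ m % 1024

/-- table lookup -/
def ty (m : ℕ) : ℕ := TY / 1024 ^ m % 1024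

/-- table lookup -/
def tk (m : ℕ) : ℕ := TK / 16 ^ m % 16

/-- the tabulated bound for `Ub` -/
def Uc (m : ℕ) : Prop := 4 * tk m ^ 2 + 3 < m + 6 * tk m ∧ Ub m (tk m) ≤ 2 ^ tu m

instance decUc (m : ℕ) : Decidable (Uc m) := by unfold Uc; infer_instance

theorem u1 : ∀ m < 146, Uc (4 + m) := by decide +kernel
theorem u2 : ∀ m < 60, Uc (150 + m) := by decide +kernel
theorem u3 : ∀ m < 50, Uc (210 + m) := by decide +kernel
theorem u4 : ∀ m < 40, Uc (260 + m) := by decide +kernel

theorem uc {m : ℕ} (h0 : 4 ≤ m) (h : m < 300) : Uc m := by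
  rcases lt_or_ge m 150 with a | a
  · simpa only [Nat.add_sub_cancel' h0] using u1 (m - 4) (by omega)
  rcases lt_or_ge m 210 with b | b
  · simpa only [Nat.add_sub_cancel' a] using u2 (m - 150) (by omega)
  rcases lt_or_ge m 260 with c | c
  · simpa only [Nat.add_sub_cancel' b] using u3 (m - 210) (by omega)
  · simpa only [Nat.add_sub_cancel' c] using u4 (m - 260) (by omega)

/-- bounded form of the two bounds -/
def Yx (b s x : ℕ) : Prop := Ia b s x ≤ 2 ^ ty (b * s) ∨ ∃ i < 12, Ib b s x i ≤ 2 ^ ty (b * s)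

instance decYx (b s x : ℕ) : Decidable (Yx b s x) := by unfold Yx; infer_instance

/-- bounded form of `IB` -/
def Yc (b s : ℕ) : Prop :=
  Yx b s s.factorial ∨ ((∃ p < s + 1, b < p ∧ p * b < mu b s ∧ p.Prime) ∧ Yx b s (4 ^ s))

instance decYc (b s : ℕ) : Decidable (Yc b s) := by unfold Yc; infer_instance

theorem Yc.ib {b s : ℕ} (h : Yc b s) : IB b s (2 ^ ty (b * s)) := by
  rcases h with h | ⟨⟨p, h1, h2, h3, h4⟩, h⟩
  · exact ⟨_, Or.inl le_rfl, h.imp_right fun ⟨i, _, hi⟩ => ⟨i, hi⟩⟩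
  · exact ⟨_, Or.inr ⟨le_rfl, p, h4, h2, by omega, h3⟩, h.imp_right fun ⟨i, _, hi⟩ => ⟨i, hi⟩⟩

theorem y1 : ∀ b < 18, 2 ≤ b → ∀ s < 299 / b + 1, b ≤ s → Yc b s ∧ Yc s b := by decide +kernel

theorem yc {b s : ℕ} (hb : 2 ≤ b) (hs : 2 ≤ s) (h : b * s < 300) : Yc b s := by
  have key : ∀ b s, 2 ≤ b → b ≤ s → b * s < 300 → Yc b s ∧ Yc s b := fun b s hb hs h =>
    y1 b (by nlinarith) hb s (Nat.lt_succ_of_le ((Nat.le_div_iff_mul_le (by omega)).2
      (by rw [mul_comm]; omega))) hs
  rcases le_total b s with c | c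
  · exact (key b s hb c h).1
  · exact (key s b hs c (by rwa [mul_comm])).2

/-- A bounded form of `Num`. -/
def Ck (n r q : ℕ) : Prop :=
  (((q = 1 ∧ 3 ≤ r) ∨ (q ≤ 2 ∧ r = 4) ∨ (q < r ∧ 5 ≤ r)) ∧ 1 ≤ q ∧ n = q * ((n - r) / q) + r ∧
    5 ≤ (n - r) / q ∧ q < (n - r) / q ∧ ((n - r) / q).Prime) ∧
  ∀ j < r, n.descFactorial j * 2 ^ tu (n - j) ≤ 4 ^ n ∧
    (1 ≤ j → n.descFactorial (j - 1) * 2 ^ ty (n - j) ≤ 4 ^ n)

instance decCk (n r q : ℕ) : Decidable (Ck n r q) := by unfold Ck; infer_instance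

theorem num {n r q : ℕ} (hn : n < 300) (h : Ck n r q) : Num n := by
  obtain ⟨⟨h1, h2, h3, h4, h5, h6⟩, h⟩ := h
  refine ⟨r, ⟨_, q, h6, h4, h2, h5, h3, h1⟩, fun j hj => ⟨?_, fun b s hj1 hb hs e => ?_⟩⟩
  · have h7 : 5 + r ≤ n := by
      have := Nat.mul_le_mul h2 h4
      omega
    obtain ⟨a1, a2⟩ := uc (m := n - j) (by omega) (by omega)
    exact ⟨_, a1, (Nat.mul_le_mul_left _ a2).trans (h j hj).1⟩
  · have e1 : n - j = b * s := by omega
    exact ⟨_, (yc hb hs (by omega)).ib, e1 ▸ (h j hj).2 hj1⟩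

theorem c1 : ∀ i < 291, ∃ r < 11, ∃ q < 10, Ck (9 + i) r q := by decide +kernel

end NAH

theorem num_A (n : ℕ) (h1 : 9 ≤ n) (h2 : n < 300) : Num n := by
  obtain ⟨r, -, q, -, h⟩ := NAH.c1 (n - 9) (by omega)
  rw [Nat.add_sub_cancel' h1] at h
  exact NAH.num h2 h

end Cfsg.Agent.P4n
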