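import Cfsg.Agent.P4n.Defs

/-! Degrees 300 to 599. See stubs/Cfsg/Agent/P4n/PLAN.md, section NB. -/

set_option autoImplicit false
set_option synthInstance.maxSize 100000

namespace Cfsg.Agent.P4n

open Equiv MulAction ChS

namespace NBH

/-- The primes below 600 as a set of bits. -/
def PM : ℕ :=
  0x8208020a08200820000a00208808808008a20208828028020220208820808228020800228800200a20a08208028228800800a28028208820a00a08800228a20208828828208a20a08a28ac

/-- The test for primes below 600. -/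
def ip (p : ℕ) : Prop := PM.testBit p = true

instance decIp (p : ℕ) : Decidable (ip p) := by unfold ip; infer_instance

theorem ip_ok : ∀ p < 600, p.Prime ↔ ip p := by decide +kernel

/-- The product `Vb` as a recursion. -/
def vb (n k : ℕ) : ℕ → ℕ
  | 0 => 1
  | m + 1 => vb n k m * if ip m then m ^ ex0 n k m else 1

theorem vb_eq (n k : ℕ) : ∀ m ≤ 600, ∏ p ∈ (Finset.range m).filter Nat.Prime, p ^ ex0 n k p = vb n k m := by
  intro m hm
  rw [Finset.prod_filter]
  induction m with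
  | zero => rfl
  | succ m ih => rw [Finset.prod_range_succ, ih (by omega), vb, if_congr (ip_ok m hm) rfl rfl]

/-- The bound `Ub` for degrees below 600. -/
def ub (n k : ℕ) : ℕ := (if ip n then n else 1) * (if ip (n / 2) then n / 2 else 1) * vb n k (n + 1)

theorem ub_eq {n : ℕ} (h : n < 600) (k : ℕ) : Ub n k = ub n k := by
  rw [Ub, exc, Vb, vb_eq n k _ h, if_congr (ip_ok n h) rfl rfl, if_congr (ip_ok (n / 2) (by omega)) rfl rfl, ub]

/-- The admissible bound for the minimal degree. -/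
def kk (n : ℕ) : ℕ := if n < 344 then 9 else if n < 422 then 10 else if n < 508 then 11 else 12

/-- The binary lengths of `Ub` from 280 to 599, in base 2048. -/
def TB : ℕ :=
  0x88d0f61c4318610c21b42c85308a0fc1f85908e0dc1782b0560ac1582903609409805001ffbf77fefd9ff3f57f6fd9f73ec7f8fcdf5beb7c8f91f5be27d2fa1f03e07bcf79edbda7c4f65ea3d47b0f45e93c9790f19df3b6768ed1da3b4764ec5d8bac762ec5d4ba575ae91d63a3742e65cc395738e65c8b8e70ce0dc5b8272ae45c8b91738e4dc5b8470edf9bf37e6f6de9bd37a6fedd9b8b696e0d9db0b616cad95aeb5d6ced79ab3556a8d45a8b5169ed21a43486a6d2da1b4068ccf5a1b3b682cf99fb36674ce99932b654ca997b26650c858cb1963ec598b31162cc3586b0d618c318ab0c618c0d81b03604c098130060cc1182afd604be57aaee5d4b9d732e35c4b6d71adb5acb596b2d15a0b416cad05a6b4d6a2cb594b29612bb56eadd5eab4576ae5592b2572ac554aa2554a854f29a530a514e294520a414828e528a2d45a8951aa254127e50e9fd3ba774ec9d93fa764e49bd3aa6d4f29c534a694da9a1332664bc95d2e2534ac95927a4d4a893125a4b4a0929212404728e51ca324588b11a22c4648ad16224452885102194408610b21643685106a0d41c83903a04404809039ff3fc7dcfa1f03d27a4f49e93e07a0f81e8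

/-- The table of binary lengths. -/
def tb (m : ℕ) : ℕ := TB / 2048 ^ (m - 280) % 2048

/-- The table is right on an interval. -/
def Tv (a c : ℕ) : Prop :=
  ∀ i < c, 4 * kk (a + i) ^ 2 + 3 < a + i + 6 * kk (a + i) ∧ ub (a + i) (kk (a + i)) ≤ 2 ^ tb (a + i)

instance decTv (a c : ℕ) : Decidable (Tv a c) := by unfold Tv; infer_instance

theorem t1 : Tv 280 120 := by decide +kernel
theorem t2 : Tv 400 100 := by decide +kernel
theorem t3 : Tv 500 100 := by decide +kernel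

theorem Tv.ok {a c n : ℕ} (h : Tv a c) (hn : n < 600) (h1 : a ≤ n) (h2 : n < a + c) :
    Adm n (kk n) ∧ Ub n (kk n) ≤ 2 ^ tb n := by
  have := h (n - a) (by omega)
  rwa [Nat.add_sub_cancel' h1, ← ub_eq hn] at this

theorem tab {n : ℕ} (h1 : 280 ≤ n) (h2 : n < 600) : Adm n (kk n) ∧ Ub n (kk n) ≤ 2 ^ tb n := by
  rcases lt_or_ge n 400 with a | a
  · exact t1.ok h2 h1 a
  rcases lt_or_ge n 500 with b | b
  · exact t2.ok h2 a b
  · exact t3.ok h2 b h2

/-- A bounded form of the claim. -/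
def Ck (n r q : ℕ) : Prop :=
  (((q = 1 ∧ 3 ≤ r) ∨ (q ≤ 2 ∧ r = 4) ∨ (q < r ∧ 5 ≤ r)) ∧ 1 ≤ q ∧ n = q * ((n - r) / q) + r ∧
    5 ≤ (n - r) / q ∧ q < (n - r) / q ∧ ip ((n - r) / q)) ∧
  ∀ j < r, n.descFactorial j * 2 ^ tb (n - j) ≤ 4 ^ n

instance decCk (n r q : ℕ) : Decidable (Ck n r q) := by unfold Ck; infer_instance

theorem c1 : ∀ i < 300, ∃ r < 15, ∃ q < 14, Ck (300 + i) r q := by decide +kernel

end NBH

theorem num_B (n : ℕ) (h1 : 300 ≤ n) (h2 : n < 600) :
    ∃ r ≤ 16, Cert n r ∧ ∀ j < r, NumU n j := by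
  obtain ⟨r, hr, q, -, h⟩ := NBH.c1 (n - 300) (by omega)
  rw [Nat.add_sub_cancel' h1] at h
  obtain ⟨⟨k1, k2, k3, k4, k5, k6⟩, h⟩ := h
  refine ⟨r, by omega, ⟨_, q, (NBH.ip_ok _ ((Nat.div_le_self _ _).trans_lt (by omega))).2 k6, k4, k2, k5, k3, k1⟩,
    fun j hj => ?_⟩
  obtain ⟨a, b⟩ := NBH.tab (n := n - j) (by omega) (by omega)
  exact ⟨_, a, (Nat.mul_le_mul_left _ b).trans (h j hj)⟩

end Cfsg.Agent.P4n
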