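import Cfsg.Agent.P4n.Defs

/-! The primitive bound, checkpoints. See stubs/Cfsg/Agent/P4n/PLAN.md, section RA. -/

set_option autoImplicit false

namespace Cfsg.Agent.P4n

open Equiv MulAction ChS

namespace RAH

/-- the primes below 729 -/
def PL : List ℕ :=
  [2, 3, 5, 7, 11, 13, 17, 19, 23, 29, 31, 37, 41, 43, 47, 53, 59, 61, 67, 71, 73, 79, 83, 89, 97, 101, 103, 107,
   109, 113, 127, 131, 137, 139, 149, 151, 157, 163, 167, 173, 179, 181, 191, 193, 197, 199, 211, 223, 227, 229, 233,
   239, 241, 251, 257, 263, 269, 271, 277, 281, 283, 293, 307, 311, 313, 317, 331, 337, 347, 349, 353, 359, 367, 373,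
   379, 383, 389, 397, 401, 409, 419, 421, 431, 433, 439, 443, 449, 457, 461, 463, 467, 479, 487, 491, 499, 503, 509,
   521, 523, 541, 547, 557, 563, 569, 571, 577, 587, 593, 599, 601, 607, 613, 617, 619, 631, 641, 643, 647, 653, 659,
   661, 673, 677, 683, 691, 701, 709, 719, 727]

/-- the product of the primes up to 421 -/
def FF : ℕ :=
  2942626865402493898331284542303571951088352644057408163982241834590761494552755795081340947570555476723564832943786222982984870085996747879272304344859483158326560985889390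

/-- the checkpoints `(c, k)` -/
def CP : List (ℕ × ℕ) :=
  [(599, 12), (611, 12), (627, 13), (639, 13), (656, 13), (674, 13), (686, 13), (699, 13), (714, 13), (725, 14),
   (735, 14), (751, 14), (767, 14), (782, 14), (799, 14), (812, 14), (830, 14), (847, 15), (866, 15), (881, 15),
   (899, 15), (920, 15), (938, 15), (959, 16), (987, 16), (1010, 16), (1039, 16), (1057, 16), (1076, 17), (1097, 17),
   (1118, 17), (1136, 17), (1151, 17), (1166, 17), (1183, 17), (1202, 17), (1226, 18), (1256, 18), (1292, 18),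
   (1322, 18), (1349, 18), (1374, 19), (1394, 19), (1419, 19), (1444, 19), (1469, 19), (1494, 19), (1519, 20),
   (1543, 20), (1568, 20), (1599, 20), (1637, 20), (1674, 20), (1712, 21), (1749, 21), (1787, 21), (1820, 21),
   (1850, 22), (1874, 22), (1903, 22), (1931, 22), (1958, 22), (1982, 22), (2014, 23), (2039, 23), (2060, 23),
   (2079, 23), (2102, 23), (2126, 23), (2156, 23), (2184, 23), (2216, 24), (2249, 24), (2282, 24), (2318, 24),
   (2357, 24), (2423, 25), (2483, 25), (2547, 25), (2600, 25), (2655, 26), (2720, 26), (2786, 26), (2858, 27),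
   (2930, 27), (2996, 27), (3068, 28), (3145, 28), (3210, 28), (3278, 29), (3350, 29), (3420, 29), (3488, 29),
   (3602, 30), (3709, 30), (3824, 31), (3919, 31), (4025, 32), (4142, 32), (4271, 32), (4393, 33), (4507, 33),
   (4641, 34), (4767, 34), (4904, 35), (5049, 35), (5210, 36), (5367, 36), (5543, 37), (5720, 37), (5903, 38),
   (6093, 39), (6291, 39), (6524, 40), (6767, 41), (6998, 41), (7232, 42), (7487, 43), (7772, 44), (8049, 44),
   (8359, 45), (8669, 46), (8999, 47), (9358, 48), (9767, 49), (10207, 50), (10663, 51), (11124, 52), (11604, 53),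
   (12099, 54), (12653, 55), (13271, 56), (13922, 58), (14612, 59), (15339, 61), (16142, 62), (17006, 64),
   (17942, 65), (18924, 67), (19976, 69), (21116, 71), (22374, 73), (23705, 75), (25159, 77), (26713, 80),
   (28349, 82), (30167, 84), (32075, 87), (34196, 90), (36491, 93), (38918, 96), (41559, 99), (44443, 102),
   (47576, 106), (50939, 109), (54596, 113), (58575, 117), (63013, 121), (67839, 126), (73007, 130), (78767, 135),
   (85085, 141), (92054, 146), (99599, 152), (107951, 158), (117207, 165), (127382, 171), (138686, 179),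
   (151190, 186), (165158, 195), (180506, 203), (197727, 213), (216919, 223), (238259, 233), (262051, 244),
   (288547, 256), (318203, 269), (351391, 282), (388586, 297), (430479, 312), (477503, 328), (529999, 346)]

/-- a number coprime to all primes `≥ 2 u + 1` -/
def Fs (u : ℕ) : ℕ := cond (Nat.ble 211 u) FF 9699690

/-- `m` if it may be prime -/
def g (F m : ℕ) : ℕ := cond (Nat.beq (Nat.gcd m F) 1) m 1

/-- the product of `g` over `cnt` odd numbers from `2 u + 1` -/
noncomputable def part (F u cnt : ℕ) : ℕ :=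
  Nat.rec 1 (fun n ih => Nat.mul ih (g F (Nat.succ (Nat.mul 2 (Nat.add u n))))) cnt

/-- the product of `g` over `64 cnt` odd numbers from `2 u + 1` -/
noncomputable def blk (F u cnt : ℕ) : ℕ :=
  Nat.rec 1 (fun n ih => Nat.mul ih (part F (Nat.add u (Nat.mul 64 n)) 64)) cnt

/-- the product of `g` over the odd numbers from `2 u + 1` to `2 v - 1` -/
noncomputable def seg (u v : ℕ) : ℕ :=
  blk (Fs u) u ((v - u) / 64) * part (Fs u) (u + 64 * ((v - u) / 64)) ((v - u) % 64)

/-- the contribution of the higher powers of the small primes -/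
def sm (c k : ℕ) : ℕ := (PL.map fun p => cond (Nat.ble (p * p) c) (p ^ (ex0 c k p - 1)) 1).prod

/-- the check along the list of checkpoints -/
noncomputable def run : List (ℕ × ℕ) → ℕ → ℕ → ℕ → Bool
  | [], a, _, _ => Nat.ble 530000 a
  | (c, k) :: l, a, u, P =>
    Nat.blt (4 * k ^ 2 + 3) (a + 6 * k) && Nat.ble u ((c / 3 + 1) / 2) && Nat.blt c 530000 &&
      Nat.ble (c * c * (sm c k * (P * seg u ((c / 3 + 1) / 2)))) (2 ^ (15 * a / 8)) &&
      run l (c + 1) ((c / 3 + 1) / 2) (P * seg u ((c / 3 + 1) / 2))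

theorem cop {m N F : ℕ} (hm : m.Prime) (h1 : F ∣ N.factorial) (h2 : N < m) : Nat.gcd m F = 1 :=
  Nat.Coprime.coprime_dvd_right h1 ((Nat.Prime.coprime_iff_not_dvd hm).2 fun h3 =>
    absurd (hm.dvd_factorial.1 h3) (by omega))

theorem cop_Fs {m u : ℕ} (hm : m.Prime) (h0 : 10 ≤ u) (h : 2 * u + 1 ≤ m) : Nat.gcd m (Fs u) = 1 := by
  rw [Fs]
  cases e : Nat.ble 211 u
  · exact cop (N := 19) hm (by decide +kernel) (by omega)
  · have := Nat.ble_eq ▸ e
    exact cop (N := 421) hm (by decide +kernel) (by omega)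

/-- the product of the primes below `m` -/
def pp (m : ℕ) : ℕ := ∏ p ∈ (Finset.range m).filter Nat.Prime, p

theorem pp_succ (m : ℕ) : pp (m + 1) = pp m * if m.Prime then m else 1 := by
  rw [pp, pp, Finset.prod_filter, Finset.prod_filter, Finset.prod_range_succ]

theorem pp_mono {a b : ℕ} (h : a ≤ b) : pp a ≤ pp b :=
  Finset.prod_le_prod_of_subset_of_one_le' (Finset.filter_subset_filter _ (Finset.range_subset_range.2 h))
    fun _ hp _ => (Finset.mem_filter.1 hp).2.pos

theorem part_le {F u₀ : ℕ} (h0 : 1 ≤ u₀) (hF : ∀ m, m.Prime → 2 * u₀ + 1 ≤ m → Nat.gcd m F = 1) {u : ℕ} (hu : u₀ ≤ u)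
    (cnt : ℕ) : pp (2 * (u + cnt) + 1) ≤ pp (2 * u + 1) * part F u cnt := by
  induction cnt with
  | zero => exact (mul_one _).ge
  | succ n ih =>
    have e : part F u (n + 1) = part F u n * g F (2 * (u + n) + 1) := rfl
    have h2 : ¬ (2 * (u + n) + 1 + 1).Prime := fun hp => by
      have := hp.eq_two_or_odd
      omega
    rw [e, show 2 * (u + (n + 1)) + 1 = 2 * (u + n) + 1 + 1 + 1 by ring, pp_succ, if_neg h2, mul_one, pp_succ,
      ← mul_assoc]
    refine Nat.mul_le_mul ih ?_
    rw [g]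
    split_ifs with h1
    · rw [hF _ h1 (by omega)]
      exact le_rfl
    · cases Nat.beq (Nat.gcd (2 * (u + n) + 1) F) 1
      · exact le_rfl
      · exact Nat.succ_pos _

theorem blk_le {F u : ℕ} (h0 : 1 ≤ u) (hF : ∀ m, m.Prime → 2 * u + 1 ≤ m → Nat.gcd m F = 1)
    (cnt : ℕ) : pp (2 * (u + 64 * cnt) + 1) ≤ pp (2 * u + 1) * blk F u cnt := by
  induction cnt with
  | zero => exact (mul_one _).ge
  | succ n ih =>
    have e : blk F u (n + 1) = blk F u n * part F (u + 64 * n) 64 := rfl
    rw [e, show u + 64 * (n + 1) = u + 64 * n + 64 by ring, ← mul_assoc]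
    exact (part_le h0 hF (by omega) 64).trans (Nat.mul_le_mul_right _ ih)

theorem pp_le {u v : ℕ} (h0 : 10 ≤ u) (h : u ≤ v) : pp (2 * v + 1) ≤ pp (2 * u + 1) * seg u v := by
  have hF : ∀ m, m.Prime → 2 * u + 1 ≤ m → Nat.gcd m (Fs u) = 1 := fun m hm h => cop_Fs hm h0 h
  have e : v = u + 64 * ((v - u) / 64) + (v - u) % 64 := by omega
  rw [seg, ← mul_assoc]
  refine le_trans (le_of_eq (by rw [← e])) ((part_le (by omega) hF (Nat.le_add_right _ _) _).trans ?_)
  exact Nat.mul_le_mul_right _ (blk_le (by omega) hF _)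

theorem vf_succ (p f m : ℕ) : vf p (f + 1) m = if m < p then 0 else m / p + vf p f (m / p) := rfl

theorem vf_mono (p f : ℕ) : ∀ m m', m ≤ m' → vf p f m ≤ vf p f m' := by
  induction f with
  | zero => intro m m' h; exact Nat.div_le_div_right h
  | succ f ih =>
    intro m m' h
    rw [vf_succ, vf_succ]
    split_ifs with h1 h2 h2
    · exact le_rfl
    · exact Nat.zero_le _
    · omega
    · exact add_le_add (Nat.div_le_div_right h) (ih _ _ (Nat.div_le_div_right h))

theorem ex0_mono {n c : ℕ} (h : n ≤ c) (k p : ℕ) : ex0 n k p ≤ ex0 c k p :=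
  add_le_add (vf_mono _ _ _ _ (Nat.div_le_div_right h)) (Nat.div_le_div_right (by omega))

theorem vf_zero {c p : ℕ} (h : c < p * p) : vf p 20 (c / p) = 0 := by
  rw [show 20 = 19 + 1 from rfl, vf_succ, if_pos (Nat.div_lt_of_lt_mul h)]

theorem ex0_def (n k p : ℕ) : ex0 n k p = vf p 20 (n / p) + (n + MM p k - EE p k) / MM p k := rfl

theorem ex0_one {c p : ℕ} (k : ℕ) (h : c < p * p) : ex0 c k p ≤ 1 := by
  have h1 : p * p ≤ MM p k := le_max_left _ _
  rw [ex0_def, vf_zero h, zero_add]
  exact Nat.lt_succ_iff.1 (Nat.div_lt_of_lt_mul (by omega))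

theorem ex0_zero {c p : ℕ} (k : ℕ) (hp : 3 ≤ p) (h : c < 3 * p) : ex0 c k p = 0 := by
  have h0 : 3 * p ≤ p * p := Nat.mul_le_mul_right _ hp
  have h1 : p * p ≤ MM p k := le_max_left _ _
  have h2 : 3 * p ≤ EE p k := le_min (le_max_left _ _) (by omega)
  have h3 : EE p k ≤ MM p k := min_le_right _ _
  rw [ex0_def, vf_zero (by omega), zero_add]
  exact Nat.div_eq_of_lt (by omega)

theorem mem_PL' : ∀ p < 729, 20 < p → Nat.gcd p (Fs ((p - 1) / 2)) = 1 → p ∈ PL := by decide +kernel

theorem mem_PL (p : ℕ) (h : p < 729) (hp : p.Prime) : p ∈ PL := by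
  by_cases h1 : 20 < p
  · exact mem_PL' p h h1 (cop_Fs hp (by omega) (by omega))
  · revert hp
    have h2 : p ≤ 20 := by omega
    interval_cases p <;> decide

theorem nodup_PL : PL.Nodup := by decide +kernel

theorem pos_PL : ∀ p ∈ PL, 1 ≤ p := by decide +kernel

theorem Vb_le {n c : ℕ} (k : ℕ) (h0 : 6 ≤ c) (h : n ≤ c) (hc : c < 530000) : Vb n k ≤ sm c k * pp (c / 3 + 1) := by
  have e1 : Vb n k ≤ ∏ p ∈ (Finset.range (n + 1)).filter Nat.Prime,
      (p ^ (ex0 c k p - 1) * if 3 * p ≤ c then p else 1) := by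
    refine Finset.prod_le_prod' fun p hp => ?_
    have hp' := (Finset.mem_filter.1 hp).2
    refine (Nat.pow_le_pow_right hp'.pos (ex0_mono h k p)).trans ?_
    split_ifs with h1
    · rw [← pow_succ]
      exact Nat.pow_le_pow_right hp'.pos (by omega)
    · rw [ex0_zero k (by omega) (by omega)]
      simp
  refine e1.trans ?_
  rw [Finset.prod_mul_distrib]
  refine Nat.mul_le_mul ?_ ?_
  · have e2 : sm c k = (PL.map fun p => p ^ (ex0 c k p - 1)).prod := by
      refine congrArg List.prod (List.map_congr_left fun p _ => ?_)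
      cases e : Nat.ble (p * p) c
      · have h2 : ¬ p * p ≤ c := fun h2 => by simp [Nat.ble_eq.symm ▸ h2] at e
        have h3 := ex0_one (c := c) (p := p) k (by omega)
        rw [show ex0 c k p - 1 = 0 by omega, pow_zero]
        rfl
      · rfl
    rw [e2, ← List.prod_toFinset _ nodup_PL,
      ← Finset.prod_filter_of_ne (p := fun p => p < 729) fun p _ hp => ?_]
    · refine Finset.prod_le_prod_of_subset_of_one_le' (fun p hp => ?_) fun p hp _ => ?_
      · simp only [Finset.mem_filter] at hp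
        exact List.mem_toFinset.2 (mem_PL p hp.2 hp.1.2)
      · exact Nat.one_le_pow _ _ (pos_PL p (List.mem_toFinset.1 hp))
    · by_contra h1
      have h2 : 729 * 729 ≤ p * p := Nat.mul_le_mul (by omega) (by omega)
      have h3 := ex0_one (c := c) (p := p) k (by omega)
      exact hp (by rw [show ex0 c k p - 1 = 0 by omega, pow_zero])
  · rw [← Finset.prod_filter, pp]
    refine Finset.prod_le_prod_of_subset_of_one_le' (fun p hp => ?_) fun p hp _ => ?_
    · simp only [Finset.mem_filter, Finset.mem_range] at hp ⊢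
      exact ⟨by omega, hp.1.2⟩
    · exact (Finset.mem_filter.1 hp).2.pos

theorem exc_le {n c : ℕ} (h0 : 1 ≤ c) (h : n ≤ c) : exc n ≤ c * c := by
  refine Nat.mul_le_mul ?_ ?_ <;> split_ifs <;> omega

theorem run_ok (l : List (ℕ × ℕ)) : ∀ a u P, run l a u P = true → 10 ≤ u → pp (2 * u + 1) ≤ P → ∀ n, 6 ≤ a → a ≤ n →
    n < 530000 → ∃ k, Adm n k ∧ Ub n k ≤ 2 ^ (15 * n / 8) := by
  induction l with
  | nil =>
    intro a u P h _ _ n _ h1 h2
    simp only [run, Nat.ble_eq] at h
    omega
  | cons x l ih =>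
    obtain ⟨c, k⟩ := x
    intro a u P h h0 hP n h6 h1 h2
    simp only [run, Bool.and_eq_true, Nat.ble_eq, Nat.blt_eq] at h
    obtain ⟨⟨⟨⟨a1, a2⟩, a3⟩, a4⟩, a5⟩ := h
    have hP' := (pp_le h0 a2).trans (Nat.mul_le_mul_right _ hP)
    by_cases hn : n ≤ c
    · refine ⟨k, show 4 * k ^ 2 + 3 < n + 6 * k by omega, ?_⟩
      refine le_trans ?_ (a4.trans (Nat.pow_le_pow_right (by norm_num) (by omega)))
      exact Nat.mul_le_mul (exc_le (by omega) hn)
        ((Vb_le k (by omega) hn a3).trans (Nat.mul_le_mul_left _ ((pp_mono (by omega)).trans hP')))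
    · exact ih _ _ _ a5 (by omega) hP' n (by omega) (by omega) h2

theorem run_CP : run CP 590 10 9699690 = true := by decide +kernel

end RAH

theorem rate_mid (n : ℕ) (h1 : 590 ≤ n) (h2 : n < 530000) :
    ∃ k, Adm n k ∧ Ub n k ≤ 2 ^ (15 * n / 8) :=
  RAH.run_ok _ _ _ _ RAH.run_CP le_rfl (by decide +kernel) n (by norm_num) h1 h2

end Cfsg.Agent.P4n
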